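import Groth.Agent.NumType.QuadForm
import Mathlib.Tactic.FinCases
import Mathlib.Tactic.IntervalCases

/-!
# Proper configurations of `(-2)`-indices of a numerical type: trees and chains
-/

namespace Groth.Agent.NumType

open Finset

variable {n : ℕ} (T : Models.NumericalType n)

theorem term_le_sum {ι : Type*} [Fintype ι] [DecidableEq ι] (f : ι → ℕ) (a : ι) : f a ≤ ∑ y, f y :=
  Finset.single_le_sum (fun _ _ => Nat.zero_le _) (mem_univ a)

theorem pair_le_sum {ι : Type*} [Fintype ι] [DecidableEq ι] (f : ι → ℕ) {a b : ι} (h : a ≠ b) :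
    f a + f b ≤ ∑ y, f y := by
  rw [← Finset.sum_pair h]
  exact Finset.sum_le_sum_of_subset (subset_univ _)

theorem triple_le_sum {ι : Type*} [Fintype ι] [DecidableEq ι] (f : ι → ℕ) {a b d : ι}
    (h : a ≠ b) (h' : a ≠ d) (h'' : b ≠ d) : f a + f b + f d ≤ ∑ y, f y := by
  rw [add_assoc, ← Finset.sum_pair h'', ← Finset.sum_insert (by simp [h, h'] : a ∉ ({b, d} : Finset ι))]
  exact Finset.sum_le_sum_of_subset (subset_univ _)

theorem pos_of_ne {i j : Fin n} (hij : i ≠ j) (h : T.a i j ≠ 0) : 0 < T.a i j :=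
  lt_of_le_of_ne (T.offDiag_nonneg i j hij) h.symm

/-- A nonzero entry below twice the weight equals the weight. -/
theorem eq_w_of_lt {i j : Fin n} (hij : i ≠ j) (h : T.a i j ≠ 0) (h2 : ¬ 2 * T.w i ≤ T.a i j) :
    T.a i j = T.w i := by
  obtain ⟨p, hp⟩ := T.w_dvd i j
  have hw := T.w_pos i
  have hpos := pos_of_ne T hij h
  rw [hp] at hpos h2
  have h1 : 1 ≤ p := (mul_pos_iff_of_pos_left hw).1 hpos
  have h3 : p ≤ 1 := by
    by_contra hc; push Not at hc; exact h2 (by nlinarith)
  rw [hp, le_antisymm h3 h1, mul_one]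

/-- If every thickening of one pair of indices supports a certificate, the configuration is rigid:
all edges are simply laced and there are no other edges. -/
theorem rigid {k : ℕ} (v : Fin k ↪ Fin n) (hk : k < n) (hv : ∀ s, T.IsMinusTwo (v s))
    (L : List (Fin k × Fin k)) (hL : ∀ e ∈ L, e.1 ≠ e.2)
    (hE : ∀ e ∈ L, T.a (v e.1) (v e.2) ≠ 0) (Cs : List (Fin k → ℕ))
    (hC : ∀ s t : Fin k, s ≠ t → ∃ c ∈ Cs, (∃ x, c x ≠ 0) ∧ ∀ x, c x ≠ 0 →
      2 * c x ≤ ∑ y, ((if (x, y) ∈ L ∨ (y, x) ∈ L then 1 else 0) +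
        (if (x = s ∧ y = t) ∨ (¬((s, t) ∈ L ∨ (t, s) ∈ L) ∧ x = t ∧ y = s) then 1 else 0)) * c y) :
    (∀ s t, ((s, t) ∈ L ∨ (t, s) ∈ L) → T.a (v s) (v t) = T.w (v s) ∧ T.a (v s) (v t) = T.w (v t)) ∧
      (∀ s t, s ≠ t → ¬((s, t) ∈ L ∨ (t, s) ∈ L) → T.a (v s) (v t) = 0) := by
  have hadj : ∀ x y, ((x, y) ∈ L ∨ (y, x) ∈ L) → x ≠ y ∧ T.a (v x) (v y) ≠ 0 := by
    intro x y h
    rcases h with h | h
    · exact ⟨hL _ h, hE _ h⟩
    · exact ⟨(hL _ h).symm, a_symm T (v y) (v x) ▸ hE _ h⟩
  have hbase : ∀ x y, x ≠ y →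
      ((if (x, y) ∈ L ∨ (y, x) ∈ L then 1 else 0 : ℕ) : ℤ) * T.w (v x) ≤ T.a (v x) (v y) := by
    intro x y hxy
    split_ifs with h
    · simpa using w_le_a T (v.injective.ne hxy) (hadj x y h).2
    · simpa using T.offDiag_nonneg _ _ (v.injective.ne hxy)
  have key : ∀ s t : Fin k, s ≠ t →
      (((s, t) ∈ L ∨ (t, s) ∈ L) → ¬ 2 * T.w (v s) ≤ T.a (v s) (v t)) ∧
        (¬((s, t) ∈ L ∨ (t, s) ∈ L) → T.a (v s) (v t) = 0) := by
    intro s t hst
    obtain ⟨c, -, hc, hsum⟩ := hC s t hst
    have main : (∀ x y, x ≠ y →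
        ((x = s ∧ y = t) ∨ (¬((s, t) ∈ L ∨ (t, s) ∈ L) ∧ x = t ∧ y = s)) →
        (((if (x, y) ∈ L ∨ (y, x) ∈ L then 1 else 0) + 1 : ℕ) : ℤ) * T.w (v x) ≤ T.a (v x) (v y)) →
        False := by
      intro h
      refine no_config T v hk hv _ ?_ ?_ c hc hsum
      · intro x
        rw [if_neg (fun hh => (hadj x x hh).1 rfl), if_neg]
        rintro (⟨rfl, rfl⟩ | ⟨-, rfl, rfl⟩) <;> exact hst rfl
      · intro x y hxy
        by_cases hh : (x = s ∧ y = t) ∨ (¬((s, t) ∈ L ∨ (t, s) ∈ L) ∧ x = t ∧ y = s)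
        · rw [if_pos hh]; exact h x y hxy hh
        · rw [if_neg hh, add_zero]; exact hbase x y hxy
    constructor
    · intro hedge h2
      refine main fun x y _ hxy => ?_
      rcases hxy with ⟨rfl, rfl⟩ | ⟨hn, -, -⟩
      · rw [if_pos hedge]; exact_mod_cast h2
      · exact absurd hedge hn
    · intro hne
      by_contra h0
      refine main fun x y hxy hh => ?_
      rcases hh with ⟨rfl, rfl⟩ | ⟨-, rfl, rfl⟩
      · rw [if_neg hne]; simpa using w_le_a T (v.injective.ne hxy) h0
      · rw [if_neg (fun h => hne h.symm)]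
        simpa using w_le_a T (v.injective.ne hxy) (by rwa [a_symm])
  refine ⟨fun s t h => ?_, fun s t hst => (key s t hst).2⟩
  obtain ⟨hst, hne⟩ := hadj s t h
  refine ⟨eq_w_of_lt T (v.injective.ne hst) hne ((key s t hst).1 h), ?_⟩
  rw [a_symm]
  exact eq_w_of_lt T (v.injective.ne hst.symm) (by rwa [a_symm])
    ((key t s hst.symm).1 h.symm)

section Chain

variable {t : ℕ} (v : Fin t ↪ Fin n) (hk : t < n) (hv : ∀ j, T.IsMinusTwo (v j))
  (hchain : ∀ j j' : Fin t, j'.val = j.val + 1 → T.a (v j) (v j') ≠ 0)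

include hk hv hchain

theorem chain_lower (x y : Fin t) (h : x.val + 1 = y.val ∨ y.val + 1 = x.val) :
    T.w (v x) ≤ T.a (v x) (v y) := by
  have hne : v x ≠ v y := v.injective.ne (by rintro rfl; omega)
  refine w_le_a T hne ?_
  rcases h with h | h
  · exact hchain x y h.symm
  · rw [a_symm]; exact hchain y x h.symm

/-- A chain with prescribed extra lower bounds on some ordered pairs cannot carry a certificate. -/
theorem chain_no_config (Kb : Fin t → Fin t → ℕ) (c : Fin t → ℕ) (hc : ∃ x, c x ≠ 0)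
    (hK : ∀ x y : Fin t, x ≠ y → (Kb x y : ℤ) * T.w (v x) ≤ T.a (v x) (v y))
    (hsum : ∀ x, c x ≠ 0 → ∃ a b : Fin t, a ≠ x ∧ b ≠ x ∧
      ((a ≠ b ∧ 2 * c x ≤ Kb x a * c a + Kb x b * c b) ∨ 2 * c x ≤ Kb x a * c a)) : False := by
  refine no_config T v hk hv (fun x y => if x = y then 0 else Kb x y) (fun x => if_pos rfl)
    (fun x y h => by rw [if_neg h]; exact hK x y h) c hc fun x hx => ?_
  obtain ⟨a, b, ha, hb, ⟨hab, h⟩ | h⟩ := hsum x hx
  · refine le_trans ?_ (pair_le_sum _ hab)
    rw [if_neg (Ne.symm ha), if_neg (Ne.symm hb)]; exact h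
  · refine le_trans ?_ (term_le_sum _ a)
    rw [if_neg (Ne.symm ha)]; exact h

theorem chain_no_chord (j k : Fin t) (hjk : j.val + 1 < k.val) : T.a (v j) (v k) = 0 := by
  by_contra h0
  refine chain_no_config T v hk hv hchain
    (fun x y => if (x.val + 1 = y.val ∨ y.val + 1 = x.val) ∨ (x = j ∧ y = k) ∨ (x = k ∧ y = j) then 1 else 0)
    (fun x => if j.val ≤ x.val ∧ x.val ≤ k.val then 1 else 0) ⟨j, by simp; omega⟩ ?_ ?_
  · intro x y hxy
    split_ifs with h
    · rcases h with h | ⟨rfl, rfl⟩ | ⟨rfl, rfl⟩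
      · simpa using chain_lower T v hk hv hchain x y h
      · simpa using w_le_a T (v.injective.ne hxy) h0
      · simpa using w_le_a T (v.injective.ne hxy) (by rwa [a_symm])
    · simpa using T.offDiag_nonneg _ _ (v.injective.ne hxy)
  · intro x hx
    have hx' : j.val ≤ x.val ∧ x.val ≤ k.val := by by_contra h; exact hx (if_neg h)
    have hkt := k.isLt
    rcases eq_or_lt_of_le hx'.1 with h | h
    · refine ⟨⟨x.val + 1, by omega⟩, k, by simp [Fin.ext_iff], by simp [Fin.ext_iff]; omega, Or.inl ⟨?_, ?_⟩⟩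
      · simp [Fin.ext_iff]; omega
      · simp only [Fin.ext_iff]
        split_ifs <;> simp_all <;> omega
    rcases eq_or_lt_of_le hx'.2 with h' | h'
    · refine ⟨⟨x.val - 1, by omega⟩, j, by simp [Fin.ext_iff]; omega, by simp [Fin.ext_iff]; omega, Or.inl ⟨?_, ?_⟩⟩
      · simp [Fin.ext_iff]; omega
      · simp only [Fin.ext_iff]
        split_ifs <;> simp_all <;> omega
    · refine ⟨⟨x.val - 1, by omega⟩, ⟨x.val + 1, by omega⟩, by simp [Fin.ext_iff]; omega,
        by simp [Fin.ext_iff], Or.inl ⟨?_, ?_⟩⟩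
      · simp [Fin.ext_iff] <;> omega
      · simp only [Fin.ext_iff]
        split_ifs <;> simp_all <;> omega

open Classical in
/-- The largest multiple (at most `3`) of `w (v x)` certified below a chain entry. -/
noncomputable def chainK (x y : Fin t) : ℕ :=
  if x.val + 1 = y.val ∨ y.val + 1 = x.val then
    (if 3 * T.w (v x) ≤ T.a (v x) (v y) then 3 else
      if 2 * T.w (v x) ≤ T.a (v x) (v y) then 2 else 1)
  else 0

theorem chainK_le (x y : Fin t) (h : x ≠ y) :
    (chainK T v x y : ℤ) * T.w (v x) ≤ T.a (v x) (v y) := by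
  unfold chainK
  split_ifs with h1 h2 h3
  · exact_mod_cast h2
  · exact_mod_cast h3
  · simpa using chain_lower T v hk hv hchain x y h1
  · simpa using T.offDiag_nonneg _ _ (v.injective.ne h)

omit hk hv hchain in
theorem chainK_bounds {x y : Fin t} (h : x.val + 1 = y.val ∨ y.val + 1 = x.val) :
    1 ≤ chainK T v x y ∧ (2 * T.w (v x) ≤ T.a (v x) (v y) → 2 ≤ chainK T v x y) ∧
      (3 * T.w (v x) ≤ T.a (v x) (v y) → chainK T v x y = 3) := by
  refine ⟨?_, fun h' => ?_, fun h' => ?_⟩ <;> simp only [chainK, if_pos h]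
  · split_ifs <;> omega
  · rw [if_pos h']; split_ifs <;> omega
  · rw [if_pos h']

/-- Two edges which are not simply laced do not occur in a chain. -/
theorem chain_two_nonsimple (e e' f f' : Fin t) (he : e.val + 1 = e'.val) (hf : f.val + 1 = f'.val)
    (hef : e.val < f.val)
    (hne : 2 * T.w (v e) ≤ T.a (v e) (v e') ∨ 2 * T.w (v e') ≤ T.a (v e') (v e))
    (hnf : 2 * T.w (v f) ≤ T.a (v f) (v f') ∨ 2 * T.w (v f') ≤ T.a (v f') (v f)) : False := by
  let c : Fin t → ℕ := fun x =>
    if x.val = e.val then (if 2 * T.w (v e') ≤ T.a (v e') (v e) then 1 else 2)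
    else if x.val = f'.val then (if 2 * T.w (v f) ≤ T.a (v f) (v f') then 1 else 2)
    else if e.val < x.val ∧ x.val < f'.val then 2 else 0
  refine chain_no_config T v hk hv hchain (chainK T v) c
    ⟨e, by simp only [c]; split_ifs <;> omega⟩ (chainK_le T v hk hv hchain) fun x hx => ?_
  have hxf := f'.isLt
  have hx' : e.val ≤ x.val ∧ x.val ≤ f'.val := by
    by_contra hh
    apply hx
    simp only [c]
    rw [if_neg (by omega), if_neg (by omega), if_neg (by omega)]
  rcases eq_or_lt_of_le hx'.1 with h | h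
  · obtain rfl : e = x := Fin.ext h
    have hce' : c e' = 2 := by
      simp only [c]; rw [if_neg (by omega), if_neg (by omega), if_pos (by omega)]
    refine ⟨e', e', by simp [Fin.ext_iff]; omega, by simp [Fin.ext_iff]; omega, Or.inr ?_⟩
    rw [hce']
    have hb := chainK_bounds T v (x := e) (y := e') (Or.inl he)
    simp only [c, if_pos]
    split_ifs with h1
    · omega
    · have := hb.2.1 (hne.resolve_right h1); omega
  rcases eq_or_lt_of_le hx'.2 with h' | h'
  · obtain rfl : x = f' := Fin.ext h'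
    have hcf : c f = 2 := by
      simp only [c]; rw [if_neg (by omega), if_neg (by omega), if_pos (by omega)]
    refine ⟨f, f, by simp [Fin.ext_iff]; omega, by simp [Fin.ext_iff]; omega, Or.inr ?_⟩
    rw [hcf]
    have hb := chainK_bounds T v (x := x) (y := f) (Or.inr hf)
    simp only [c]
    rw [if_neg (by omega)]; simp only [↓reduceIte]
    split_ifs with h1
    · omega
    · have := hb.2.1 (hnf.resolve_left h1); omega
  · have hcx : c x = 2 := by
      simp only [c]; rw [if_neg (by omega), if_neg (by omega), if_pos (by omega)]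
    let a : Fin t := ⟨x.val - 1, by omega⟩
    let b : Fin t := ⟨x.val + 1, by omega⟩
    refine ⟨a, b, by simp [a, Fin.ext_iff]; omega, by simp [b, Fin.ext_iff],
      Or.inl ⟨by simp [a, b, Fin.ext_iff] <;> omega, ?_⟩⟩
    have hL : 2 ≤ chainK T v x a * c a := by
      have hb := chainK_bounds T v (x := x) (y := a) (Or.inr (by simp [a]; omega))
      by_cases ha : a.val = e.val
      · obtain rfl : x = e' := Fin.ext (by simp [a] at ha; omega)
        obtain ha' : a = e := Fin.ext ha
        rw [ha'] at hb ⊢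
        simp only [c, if_pos]
        split_ifs with h1
        · have := hb.2.1 h1; omega
        · have := hb.1; omega
      · have : c a = 2 := by
          simp only [a] at ha
          simp only [c, a]; rw [if_neg (by omega), if_neg (by omega), if_pos (by omega)]
        rw [this]; have := hb.1; omega
    have hR : 2 ≤ chainK T v x b * c b := by
      have hb := chainK_bounds T v (x := x) (y := b) (Or.inl (by simp [b]))
      by_cases ha : b.val = f'.val
      · obtain rfl : x = f := Fin.ext (by simp [b] at ha; omega)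
        obtain ha' : b = f' := Fin.ext ha
        rw [ha'] at hb ⊢
        simp only [c]
        rw [if_neg (by omega)]; simp only [↓reduceIte]
        split_ifs with h1
        · have := hb.2.1 h1; omega
        · have := hb.1; omega
      · have : c b = 2 := by
          simp only [b] at ha
          simp only [c, b]; rw [if_neg (by omega), if_neg (by omega), if_pos (by omega)]
        rw [this]; have := hb.1; omega
    rw [hcx]; omega

end Chain

section Local

variable {T}

/-- No triple edge with a further neighbour. -/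
theorem no_triple {e m o : Fin n} (hn : 3 < n) (hem : e ≠ m) (hmo : m ≠ o) (heo : e ≠ o)
    (h2 : T.IsMinusTwo e ∧ T.IsMinusTwo m ∧ T.IsMinusTwo o) (h1 : T.a m o ≠ 0) (h0 : T.a e m ≠ 0)
    (h3 : 3 * T.w e ≤ T.a e m ∨ 3 * T.w m ≤ T.a m e) : False := by
  let v : Fin 3 ↪ Fin n := ⟨![e, m, o], by
    intro a b h; fin_cases a <;> fin_cases b <;>
      simp_all [Ne.symm hem, Ne.symm hmo, Ne.symm heo]⟩
  have v0 : v 0 = e := rfl
  have v1 : v 1 = m := rfl
  have v2 : v 2 = o := rfl
  have hm0 : T.a m e ≠ 0 := by rwa [a_symm]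
  have hom : T.a o m ≠ 0 := by rwa [a_symm]
  have e01 := w_le_a T hem h0
  have e10 := w_le_a T hem.symm hm0
  have e12 := w_le_a T hmo h1
  have e21 := w_le_a T hmo.symm hom
  have e02 := T.offDiag_nonneg _ _ heo
  have e20 := T.offDiag_nonneg _ _ heo.symm
  have hneg : ∀ c : Fin 3 → ℤ, c ≠ 0 → ∑ s, ∑ r, T.a (v s) (v r) * c s * c r < 0 :=
    fun c => sub_form_neg T v hn c
  have := T.w_pos e
  rcases h3 with h3 | h3
  · have := hneg ![3, 2, 1] (fun h => by simpa using congrFun h 0)
    simp [Fin.sum_univ_three, v0, v1, v2, h2.1.2, h2.2.1.2, h2.2.2.2] at this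
    linarith
  · have := hneg ![1, 2, 1] (fun h => by simpa using congrFun h 0)
    simp [Fin.sum_univ_three, v0, v1, v2, h2.1.2, h2.2.1.2, h2.2.2.2] at this
    linarith

/-- No double edge with a neighbour on one side and a chain of two on the other. -/
theorem no_F4 {l x y r r' : Fin n} (hn : 5 < n) (hnd : [l, x, y, r, r'].Nodup)
    (h2 : ∀ s ∈ [l, x, y, r, r'], T.IsMinusTwo s)
    (h01 : T.a l x ≠ 0) (h12 : T.a x y ≠ 0) (h23 : T.a y r ≠ 0) (h34 : T.a r r' ≠ 0)
    (h : 2 * T.w x ≤ T.a x y ∨ 2 * T.w y ≤ T.a y x) : False := by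
  let v : Fin 5 ↪ Fin n := ⟨fun s => [l, x, y, r, r'][s.val]'(by simpa using s.isLt), fun a b e =>
    Fin.ext ((List.Nodup.getElem_inj_iff hnd).1 e)⟩
  have hv : ∀ s, T.IsMinusTwo (v s) := fun s => h2 _ (List.getElem_mem _)
  have hchain : ∀ j j' : Fin 5, j'.val = j.val + 1 → T.a (v j) (v j') ≠ 0 := by
    intro j j' e
    fin_cases j <;> fin_cases j' <;> simp at e <;> assumption
  have hsum : ∀ c : Fin 5 → ℕ, c 0 ≠ 0 → (∀ s, ∃ a b : Fin 5, a ≠ s ∧ b ≠ s ∧
      ((a ≠ b ∧ 2 * c s ≤ chainK T v s a * c a + chainK T v s b * c b) ∨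
        2 * c s ≤ chainK T v s a * c a)) → False := fun c hc hs =>
    chain_no_config T v hn hv hchain (chainK T v) c ⟨0, hc⟩ (chainK_le T v hn hv hchain) fun s _ => hs s
  have b01 := (chainK_bounds T v (x := 0) (y := 1) (by decide)).1
  have b10 := (chainK_bounds T v (x := 1) (y := 0) (by decide)).1
  have b12 := chainK_bounds T v (x := 1) (y := 2) (by decide)
  have b21 := chainK_bounds T v (x := 2) (y := 1) (by decide)
  have b23 := (chainK_bounds T v (x := 2) (y := 3) (by decide)).1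
  have b32 := (chainK_bounds T v (x := 3) (y := 2) (by decide)).1
  have b34 := (chainK_bounds T v (x := 3) (y := 4) (by decide)).1
  have b43 := (chainK_bounds T v (x := 4) (y := 3) (by decide)).1
  rcases h with h | h
  · have h' : 2 ≤ chainK T v 1 2 := b12.2.1 h
    have := b21.1
    refine hsum ![2, 4, 3, 2, 1] (by simp) fun s => ?_
    fin_cases s
    · exact ⟨1, 1, by decide, by decide, Or.inr (by simp; omega)⟩
    · exact ⟨0, 2, by decide, by decide, Or.inl ⟨by decide, by simp; omega⟩⟩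
    · exact ⟨1, 3, by decide, by decide, Or.inl ⟨by decide, by simp; omega⟩⟩
    · exact ⟨2, 4, by decide, by decide, Or.inl ⟨by decide, by simp; omega⟩⟩
    · exact ⟨3, 3, by decide, by decide, Or.inr (by simp; omega)⟩
  · have h' : 2 ≤ chainK T v 2 1 := b21.2.1 h
    have := b12.1
    refine hsum ![1, 2, 3, 2, 1] (by simp) fun s => ?_
    fin_cases s
    · exact ⟨1, 1, by decide, by decide, Or.inr (by simp; omega)⟩
    · exact ⟨0, 2, by decide, by decide, Or.inl ⟨by decide, by simp; omega⟩⟩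
    · exact ⟨1, 3, by decide, by decide, Or.inl ⟨by decide, by simp; omega⟩⟩
    · exact ⟨2, 4, by decide, by decide, Or.inl ⟨by decide, by simp; omega⟩⟩
    · exact ⟨3, 3, by decide, by decide, Or.inr (by simp; omega)⟩

end Local

theorem chain_classify {t : ℕ} (v : Fin t ↪ Fin n) (hk : t < n) (hv : ∀ j, T.IsMinusTwo (v j))
    (hchain : ∀ j j' : Fin t, j'.val = j.val + 1 → T.a (v j) (v j') ≠ 0) (ht : 3 ≤ t) :
    ∃ (x : ℕ) (p q w : ℤ), x + 1 < t ∧
      ((p = 1 ∧ q = 1) ∨ (((p = 2 ∧ q = 1) ∨ (p = 1 ∧ q = 2)) ∧ (5 ≤ t → x = 0 ∨ x + 2 = t))) ∧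
      0 < w ∧
      (∀ j : Fin t, T.w (v j) = if j.val ≤ x then q * w else p * w) ∧
      (∀ j j' : Fin t, j'.val = j.val + 1 →
        T.a (v j) (v j') = if j.val < x then q * w else if j.val = x then p * q * w else p * w) := by
  classical
  let N : ℕ → Prop := fun i => ∃ h : i + 1 < t,
    2 * T.w (v ⟨i, by omega⟩) ≤ T.a (v ⟨i, by omega⟩) (v ⟨i + 1, h⟩) ∨
      2 * T.w (v ⟨i + 1, h⟩) ≤ T.a (v ⟨i + 1, h⟩) (v ⟨i, by omega⟩)
  have hsimp : ∀ j j' : Fin t, j'.val = j.val + 1 → ¬ N j.val →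
      T.a (v j) (v j') = T.w (v j) ∧ T.a (v j) (v j') = T.w (v j') := by
    intro j j' e hn
    obtain ⟨k, hk'⟩ := j'
    change k = j.val + 1 at e
    subst e
    simp only [N, not_exists, not_or, Fin.eta] at hn
    obtain ⟨h1, h2⟩ := hn (by omega)
    have hne := v.injective.ne (show j ≠ ⟨j.val + 1, by omega⟩ by simp [Fin.ext_iff])
    refine ⟨eq_w_of_lt T hne (hchain _ _ rfl) h1, ?_⟩
    rw [a_symm]
    exact eq_w_of_lt T hne.symm (by rw [a_symm]; exact hchain _ _ rfl) h2
  obtain ⟨x, hxt, hx⟩ : ∃ x, x + 1 < t ∧ ∀ i, N i → i = x := by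
    by_cases hN : ∃ i, N i
    · obtain ⟨i, hi, hi'⟩ := hN
      refine ⟨i, hi, fun i' hi'' => ?_⟩
      obtain ⟨h2, h2'⟩ := hi''
      rcases lt_trichotomy i' i with h | h | h
      · exact (chain_two_nonsimple T v hk hv hchain _ _ _ _ rfl rfl h h2' hi').elim
      · exact h
      · exact (chain_two_nonsimple T v hk hv hchain _ _ _ _ rfl rfl h hi' h2').elim
    · push Not at hN
      exact ⟨0, by omega, fun i hi => absurd hi (hN i)⟩
  set X : Fin t := ⟨x, by omega⟩
  set X' : Fin t := ⟨x + 1, hxt⟩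
  obtain ⟨p, q, w, hpq, hw, hwX, hwX', haX⟩ : ∃ p q w : ℤ,
      ((p = 1 ∧ q = 1) ∨ (((p = 2 ∧ q = 1) ∨ (p = 1 ∧ q = 2)) ∧ N x)) ∧ 0 < w ∧
        T.w (v X) = q * w ∧ T.w (v X') = p * w ∧ T.a (v X) (v X') = p * q * w := by
    by_cases hN : N x
    · obtain ⟨p, hp⟩ := T.w_dvd (v X) (v X')
      obtain ⟨q, hq⟩ := (a_symm T (v X') (v X)) ▸ T.w_dvd (v X') (v X)
      have hwX := T.w_pos (v X)
      have hwX' := T.w_pos (v X')
      have hne : v X ≠ v X' := v.injective.ne (by simp [X, X', Fin.ext_iff])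
      have hpos := pos_of_ne T hne (hchain X X' rfl)
      have hp0 : 0 < p := by rw [hp] at hpos; exact (mul_pos_iff_of_pos_left hwX).1 hpos
      have hq0 : 0 < q := by rw [hq] at hpos; exact (mul_pos_iff_of_pos_left hwX').1 hpos
      have hle : p ≤ 2 ∧ q ≤ 2 := by
        by_contra hh
        have h3 : 3 * T.w (v X) ≤ T.a (v X) (v X') ∨ 3 * T.w (v X') ≤ T.a (v X') (v X) := by
          rw [a_symm T (v X') (v X)]
          rcases not_and_or.1 hh with h | h
          · left; rw [hp]; nlinarith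
          · right; rw [hq]; nlinarith
        rcases Nat.eq_zero_or_pos x with hx0 | hx0
        · let o : Fin t := ⟨x + 2, by omega⟩
          exact no_triple (e := v X) (m := v X') (o := v o) (by omega) hne
            (v.injective.ne (by simp [X', o, Fin.ext_iff])) (v.injective.ne (by simp [X, o, Fin.ext_iff]))
            ⟨hv X, hv X', hv o⟩ (hchain _ _ rfl) (hchain _ _ rfl) h3
        · let o : Fin t := ⟨x - 1, by omega⟩
          exact no_triple (e := v X') (m := v X) (o := v o) (by omega) hne.symm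
            (v.injective.ne (by simp [X, o, Fin.ext_iff]; omega))
            (v.injective.ne (by simp [X', o, Fin.ext_iff]; omega))
            ⟨hv X', hv X, hv o⟩ (by rw [a_symm]; exact hchain o X (by simp [X, o]; omega))
            (by rw [a_symm]; exact hchain X X' rfl) h3.symm
      have e := hp.symm.trans hq
      obtain ⟨hh, hN'⟩ := hN
      rw [a_symm T (v ⟨x + 1, hh⟩) (v ⟨x, _⟩)] at hN'
      rcases (show (p = 1 ∧ q = 1) ∨ (p = 2 ∧ q = 1) ∨ (p = 1 ∧ q = 2) ∨ (p = 2 ∧ q = 2) by omega)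
        with ⟨rfl, rfl⟩ | ⟨rfl, rfl⟩ | ⟨rfl, rfl⟩ | ⟨rfl, rfl⟩
      · exact ⟨1, 1, T.w (v X), Or.inl ⟨rfl, rfl⟩, hwX, by ring, by linarith, by linarith⟩
      · exact ⟨2, 1, T.w (v X), Or.inr ⟨Or.inl ⟨rfl, rfl⟩, ⟨hxt, by rw [a_symm T (v X') (v X)]; exact hN'⟩⟩,
          hwX, by ring, by linarith, by linarith⟩
      · exact ⟨1, 2, T.w (v X'), Or.inr ⟨Or.inr ⟨rfl, rfl⟩, ⟨hxt, by rw [a_symm T (v X') (v X)]; exact hN'⟩⟩,
          hwX', by linarith, by ring, by linarith⟩
      · exfalso
        let u : Fin 2 ↪ Fin n := ⟨![v X, v X'], by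
          intro a b h; fin_cases a <;> fin_cases b <;> simp_all [Ne.symm hne]⟩
        have u0 : u 0 = v X := rfl
        have u1 : u 1 = v X' := rfl
        have := sub_form_neg T u (by omega) ![1, 1] (fun h => by simpa using congrFun h 0)
        simp [Fin.sum_univ_two, u0, u1, (hv X).2, (hv X').2, a_symm T (v X') (v X)] at this
        linarith
    · obtain ⟨h1, h2⟩ := hsimp X X' rfl hN
      exact ⟨1, 1, T.w (v X), Or.inl ⟨rfl, rfl⟩, T.w_pos _, by ring, by linarith, by linarith⟩
  have hstep : ∀ j j' : Fin t, j'.val = j.val + 1 → j.val ≠ x → T.w (v j') = T.w (v j) := by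
    intro j j' e hj
    obtain ⟨h1, h2⟩ := hsimp j j' e (fun h => hj (hx _ h))
    exact h2.symm.trans h1
  have hwt : ∀ j : Fin t, T.w (v j) = if j.val ≤ x then q * w else p * w := by
    intro j
    split_ifs with h
    · have : ∀ d : ℕ, ∀ i : Fin t, i.val + d = x → T.w (v i) = q * w := by
        intro d
        induction d with
        | zero => intro i hi; rw [show i = X from Fin.ext (by simpa [X] using hi)]; exact hwX
        | succ d ih =>
          intro i hi
          rw [← hstep i ⟨i.val + 1, by omega⟩ rfl (by omega)]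
          exact ih _ (by simp; omega)
      exact this (x - j.val) j (by omega)
    · have : ∀ d : ℕ, ∀ i : Fin t, i.val = x + 1 + d → T.w (v i) = p * w := by
        intro d
        induction d with
        | zero => intro i hi; rw [show i = X' from Fin.ext (by simpa [X'] using hi)]; exact hwX'
        | succ d ih =>
          intro i hi
          rw [hstep ⟨i.val - 1, by omega⟩ i (by simp; omega) (by simp; omega)]
          exact ih _ (by simp; omega)
      exact this (j.val - (x + 1)) j (by omega)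
  refine ⟨x, p, q, w, hxt, hpq.imp_right (fun h => ⟨h.1, fun h5 => ?_⟩), hw, hwt, fun j j' e => ?_⟩
  · by_contra hh
    obtain ⟨hxt2, hN⟩ := h.2
    by_cases hr : x + 3 < t
    · refine no_F4 (l := v ⟨x - 1, by omega⟩) (x := v X) (y := v X') (r := v ⟨x + 2, by omega⟩)
        (r' := v ⟨x + 3, hr⟩) (by omega) ?_ (by simp [hv]) (hchain _ _ (by simp [X]; omega))
        (hchain _ _ rfl) (hchain _ _ rfl) (hchain _ _ rfl) hN
      simp [v.injective.eq_iff, Fin.ext_iff, X, X']; omega
    · refine no_F4 (l := v ⟨x + 2, by omega⟩) (x := v X') (y := v X) (r := v ⟨x - 1, by omega⟩)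
        (r' := v ⟨x - 2, by omega⟩) (by omega) ?_ (by simp [hv]) ?_ ?_ ?_ ?_ hN.symm
      · simp [v.injective.eq_iff, Fin.ext_iff, X, X']; omega
      · rw [a_symm]; exact hchain X' _ rfl
      · rw [a_symm]; exact hchain X X' rfl
      · rw [a_symm]; exact hchain _ _ (by simp [X]; omega)
      · rw [a_symm]; exact hchain _ _ (by simp; omega)
  · split_ifs with h1 h2
    · rw [(hsimp j j' e (fun h => by have := hx _ h; omega)).1, hwt, if_pos h1.le]
    · rw [show j = X from Fin.ext h2, show j' = X' from Fin.ext (by simp [X']; omega)]; exact haX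
    · rw [(hsimp j j' e (fun h => by have := hx _ h; omega)).1, hwt, if_neg (by omega)]

end Groth.Agent.NumType
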