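import Groth.Prelude.Def_Models
import Mathlib.Algebra.Order.Field.Basic
import Mathlib.Algebra.Order.BigOperators.Ring.Finset
import Mathlib.Data.Rat.Cast.Order
import Mathlib.Data.Matrix.Mul
import Mathlib.Tactic.Ring
import Mathlib.Tactic.Linarith
import Mathlib.Tactic.FieldSimp
import Mathlib.Tactic.Positivity
import Mathlib.Tactic.FinCases
import Mathlib.Tactic.NormNum

/-!
# Quadratic forms with nonnegative off-diagonal entries and a positive sub-null vector
-/

namespace Groth.Agent.NumType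

open Finset

variable {K : Type*} [Field K] [LinearOrder K] [IsStrictOrderedRing K]
  {ι : Type*} [Fintype ι] [DecidableEq ι]

theorem quad_identity (A : Matrix ι ι K) (hsymm : A.IsSymm) (m y : ι → K) :
    ∑ i, ∑ j, A i j * (m i * y i) * (m j * y j) =
      -(∑ i, ∑ j, A i j * m i * m j * (y i - y j) ^ 2) / 2
        + ∑ i, y i ^ 2 * m i * (∑ j, A i j * m j) := by
  have e2 : ∑ i, ∑ j, A i j * m i * m j * y j ^ 2 = ∑ i, ∑ j, A i j * m i * m j * y i ^ 2 := by
    rw [Finset.sum_comm]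
    refine Finset.sum_congr rfl fun i _ => Finset.sum_congr rfl fun j _ => ?_
    rw [hsymm.apply i j]; ring
  have e3 : ∑ i, y i ^ 2 * m i * (∑ j, A i j * m j) = ∑ i, ∑ j, A i j * m i * m j * y i ^ 2 := by
    simp only [Finset.mul_sum]
    exact Finset.sum_congr rfl fun i _ => Finset.sum_congr rfl fun j _ => by ring
  have e1 : ∑ i, ∑ j, A i j * m i * m j * (y i - y j) ^ 2 =
      ∑ i, ∑ j, A i j * m i * m j * y i ^ 2 + ∑ i, ∑ j, A i j * m i * m j * y j ^ 2
        - 2 * ∑ i, ∑ j, A i j * (m i * y i) * (m j * y j) := by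
    simp only [Finset.mul_sum, ← Finset.sum_add_distrib, ← Finset.sum_sub_distrib]
    exact Finset.sum_congr rfl fun i _ => Finset.sum_congr rfl fun j _ => by ring
  rw [e1, e2, e3]; ring

theorem quad_nonpos_and_zero (A : Matrix ι ι K) (hsymm : A.IsSymm) (hA : ∀ i j, i ≠ j → 0 ≤ A i j)
    (m : ι → K) (hm : ∀ i, 0 < m i) (hR : ∀ i, ∑ j, A i j * m j ≤ 0) (x : ι → K) :
    (∑ i, ∑ j, A i j * x i * x j ≤ 0) ∧
    (∑ i, ∑ j, A i j * x i * x j = 0 →
      (∀ i j, i ≠ j → A i j ≠ 0 → x i / m i = x j / m j) ∧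
        ∀ i, x i ≠ 0 → ∑ j, A i j * m j = 0) := by
  have hx : ∀ i, m i * (x i / m i) = x i := fun i => mul_div_cancel₀ _ (hm i).ne'
  have key := quad_identity A hsymm m (fun i => x i / m i)
  simp only [hx] at key
  have hP : ∀ i j, 0 ≤ A i j * m i * m j * (x i / m i - x j / m j) ^ 2 := by
    intro i j
    by_cases h : i = j
    · subst h; simp
    · have := hA i j h; have := hm i; have := hm j; positivity
  have hN : ∀ i, (x i / m i) ^ 2 * m i * (∑ j, A i j * m j) ≤ 0 := fun i =>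
    mul_nonpos_of_nonneg_of_nonpos (by have := hm i; positivity) (hR i)
  have hP' : 0 ≤ ∑ i, ∑ j, A i j * m i * m j * (x i / m i - x j / m j) ^ 2 :=
    Finset.sum_nonneg fun i _ => Finset.sum_nonneg fun j _ => hP i j
  have hN' := Finset.sum_nonpos fun i (_ : i ∈ univ) => hN i
  refine ⟨by linarith, fun h0 => ⟨fun i j hij hAij => ?_, fun i hxi => ?_⟩⟩
  · have hz : ∑ i, ∑ j, A i j * m i * m j * (x i / m i - x j / m j) ^ 2 = 0 := by linarith
    have := (Finset.sum_eq_zero_iff_of_nonneg fun j _ => hP i j).1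
      ((Finset.sum_eq_zero_iff_of_nonneg fun i _ => Finset.sum_nonneg fun j _ => hP i j).1 hz i
        (mem_univ i)) j (mem_univ j)
    simpa [hAij, (hm i).ne', (hm j).ne', sub_eq_zero] using this
  · have hz : ∑ i, (x i / m i) ^ 2 * m i * (∑ j, A i j * m j) = 0 := by linarith
    have := (Finset.sum_eq_zero_iff_of_nonpos fun i _ => hN i).1 hz i (mem_univ i)
    simpa [hxi, (hm i).ne'] using this

variable {n : ℕ} (T : Models.NumericalType n)

theorem a_symm (i j : Fin n) : T.a i j = T.a j i := (T.symm.apply i j).symm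

theorem row_eq (i : Fin n) : ∑ j, T.a i j * T.m j = 0 := congrFun T.mulVec_m i

theorem w_le_a {i j : Fin n} (hij : i ≠ j) (h : T.a i j ≠ 0) : T.w i ≤ T.a i j :=
  Int.le_of_dvd (lt_of_le_of_ne (T.offDiag_nonneg i j hij) h.symm) (T.w_dvd i j)

theorem ne_of_pos {i j : Fin n} (hi : T.a i i ≤ 0) (h : 0 < T.a i j) : i ≠ j := by
  intro e; subst e; linarith

theorem diag_mul_nonpos (i : Fin n) : T.a i i * T.m i ≤ 0 := by
  have h := row_eq T i
  rw [← Finset.add_sum_erase _ _ (mem_univ i)] at h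
  have : 0 ≤ ∑ j ∈ univ.erase i, T.a i j * T.m j := Finset.sum_nonneg fun j hj =>
    mul_nonneg (T.offDiag_nonneg i j (Finset.ne_of_mem_erase hj).symm) (T.m_pos j).le
  linarith

theorem diag_nonpos (i : Fin n) : T.a i i ≤ 0 :=
  nonpos_of_mul_nonpos_left (diag_mul_nonpos T i) (T.m_pos i)

theorem diag_neg (hn : 1 < n) (i : Fin n) : T.a i i < 0 := by
  have hne : ({i} : Finset (Fin n)) ≠ univ := by
    intro h
    have := congrArg Finset.card h
    simp at this; omega
  obtain ⟨i', hi', j, hj, hij⟩ := T.connected {i} (singleton_nonempty i) hne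
  rw [Finset.mem_singleton] at hi' hj
  subst hi'
  have h := row_eq T i'
  rw [← Finset.add_sum_erase _ _ (mem_univ i')] at h
  have hp : 0 < ∑ j ∈ univ.erase i', T.a i' j * T.m j := by
    refine Finset.sum_pos' (fun l hl => mul_nonneg
      (T.offDiag_nonneg i' l (Finset.ne_of_mem_erase hl).symm) (T.m_pos l).le)
      ⟨j, Finset.mem_erase.2 ⟨hj, mem_univ j⟩, ?_⟩
    exact mul_pos (lt_of_le_of_ne (T.offDiag_nonneg i' j (Ne.symm hj)) hij.symm) (T.m_pos j)
  by_contra hc
  push Not at hc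
  nlinarith [T.m_pos i']

/-- The form of a numerical type is negative semidefinite, with radical spanned by `m`. -/
theorem form_nonpos (x : Fin n → ℤ) :
    (∑ i, ∑ j, T.a i j * x i * x j ≤ 0) ∧
      (∑ i, ∑ j, T.a i j * x i * x j = 0 → ∀ i j, x i * T.m j = x j * T.m i) := by
  let A : Matrix (Fin n) (Fin n) ℚ := fun i j => (T.a i j : ℚ)
  have hsymm : A.IsSymm := by
    ext i j; show (T.a j i : ℚ) = T.a i j; rw [a_symm]
  have hR : ∀ i, ∑ j, A i j * (T.m j : ℚ) = 0 := fun i => by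
    show ∑ j, (T.a i j : ℚ) * _ = 0
    exact_mod_cast row_eq T i
  have H := quad_nonpos_and_zero A hsymm
    (fun i j h => by show (0 : ℚ) ≤ T.a i j; exact_mod_cast T.offDiag_nonneg i j h)
    (fun i => (T.m i : ℚ)) (fun i => by exact_mod_cast T.m_pos i) (fun i => (hR i).le)
    (fun i => (x i : ℚ))
  have hc : ∑ i, ∑ j, A i j * (x i : ℚ) * x j = ((∑ i, ∑ j, T.a i j * x i * x j : ℤ) : ℚ) := by
    push_cast; rfl
  rw [hc] at H
  refine ⟨by exact_mod_cast H.1, fun h0 => ?_⟩
  obtain ⟨hedge, -⟩ := H.2 (by exact_mod_cast h0)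
  intro i j
  let I := univ.filter fun l => (x l : ℚ) / (T.m l : ℚ) = (x i : ℚ) / (T.m i : ℚ)
  have hI : I = univ := by
    by_contra hne
    obtain ⟨p, hp, q, hq, hpq⟩ := T.connected I ⟨i, by simp [I]⟩ hne
    simp only [I, mem_filter, mem_univ, true_and] at hp hq
    have : p ≠ q := fun e => hq (e ▸ hp)
    exact hq (((hedge p q this (by show (T.a p q : ℚ) ≠ 0; exact_mod_cast hpq))).symm.trans hp)
  have hj : j ∈ I := hI ▸ mem_univ j
  simp only [I, mem_filter, mem_univ, true_and] at hj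
  rw [div_eq_div_iff (by exact_mod_cast (T.m_pos j).ne') (by exact_mod_cast (T.m_pos i).ne')] at hj
  have := hj
  exact_mod_cast this.symm

theorem sum_embedding {k : ℕ} (v : Fin k ↪ Fin n) (f : Fin n → ℤ)
    (hf : ∀ i, i ∉ Set.range v → f i = 0) : ∑ i, f i = ∑ s, f (v s) := by
  rw [← Finset.sum_map univ v f]
  refine (Finset.sum_subset (subset_univ _) fun i _ hi => hf i ?_).symm
  simpa [Set.mem_range] using hi

/-- On a proper subset of the indices the form is negative definite. -/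
theorem sub_form_neg {k : ℕ} (v : Fin k ↪ Fin n) (hk : k < n) (c : Fin k → ℤ) (hc : c ≠ 0) :
    ∑ s, ∑ t, T.a (v s) (v t) * c s * c t < 0 := by
  let x : Fin n → ℤ := Function.extend v c 0
  have hx : ∀ s, x (v s) = c s := fun s => v.injective.extend_apply c 0 s
  have hx' : ∀ i, i ∉ Set.range v → x i = 0 := fun i hi =>
    Function.extend_apply' _ _ _ (by simpa [Set.mem_range] using hi)
  have heq : ∑ i, ∑ j, T.a i j * x i * x j = ∑ s, ∑ t, T.a (v s) (v t) * c s * c t := by
    rw [sum_embedding v _ (fun i hi => by simp [hx' i hi])]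
    refine Finset.sum_congr rfl fun s _ => ?_
    rw [sum_embedding v _ (fun j hj => by simp [hx' j hj])]
    exact Finset.sum_congr rfl fun t _ => by rw [hx, hx]
  obtain ⟨hle, hz⟩ := form_nonpos T x
  rw [heq] at hle hz
  refine lt_of_le_of_ne hle fun h0 => hc ?_
  obtain ⟨o, ho⟩ : ∃ o, o ∉ Set.range v := by
    by_contra h; push Not at h
    have := Fintype.card_le_of_surjective v h
    simp at this; omega
  funext s
  have := hz h0 (v s) o
  rw [hx, hx' o ho, zero_mul] at this
  exact (mul_eq_zero.1 this).resolve_right (T.m_pos o).ne'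

/-- The partial row sum over a set of indices containing the diagonal one is nonpositive. -/
theorem sub_row_nonpos {k : ℕ} (v : Fin k ↪ Fin n) (s : Fin k) :
    ∑ t, T.a (v s) (v t) * T.m (v t) ≤ 0 := by
  rw [← Finset.sum_map univ v (fun j => T.a (v s) j * T.m j)]
  refine le_of_le_of_eq (Finset.sum_le_sum_of_subset_of_nonneg (subset_univ _) fun j _ hj => ?_)
    (row_eq T (v s))
  refine mul_nonneg (T.offDiag_nonneg _ _ ?_) (T.m_pos j).le
  rintro rfl
  exact hj (Finset.mem_map_of_mem v (mem_univ s))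

/-- A configuration of `(-2)`-indices carrying a nonzero `c ≥ 0` with `2 c s ≤ ∑ K s t c t`, where
`a (v s) (v t) ≥ K s t * w (v s)`, cannot be proper. -/
theorem no_config {k : ℕ} (v : Fin k ↪ Fin n) (hk : k < n) (hv : ∀ s, T.IsMinusTwo (v s))
    (Kb : Fin k → Fin k → ℕ) (hdiag : ∀ s, Kb s s = 0)
    (hK : ∀ s t, s ≠ t → (Kb s t : ℤ) * T.w (v s) ≤ T.a (v s) (v t))
    (c : Fin k → ℕ) (hc : ∃ s, c s ≠ 0)
    (hsum : ∀ s, c s ≠ 0 → 2 * c s ≤ ∑ t, Kb s t * c t) : False := by
  have hlt := sub_form_neg T v hk (fun s => (c s : ℤ)) (by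
    obtain ⟨s, hs⟩ := hc
    exact fun h => hs (by simpa using congrFun h s))
  refine absurd (Finset.sum_nonneg fun s _ => ?_) (not_le.2 hlt)
  by_cases hs : c s = 0
  · simp [hs]
  have hd : T.a (v s) (v s) = -2 * T.w (v s) := (hv s).2
  have key : 0 ≤ ∑ t, T.a (v s) (v t) * (c t : ℤ) := by
    have h1 : ∀ t, (Kb s t : ℤ) * (c t : ℤ) * T.w (v s) + (if t = s then -2 * T.w (v s) * c s else 0) ≤
        T.a (v s) (v t) * (c t : ℤ) := by
      intro t
      by_cases ht : t = s
      · subst ht; simp [hdiag, hd]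
      · rw [if_neg ht, add_zero]
        have := mul_le_mul_of_nonneg_right (hK s t (Ne.symm ht)) (Int.natCast_nonneg (c t))
        linarith
    refine le_trans ?_ (Finset.sum_le_sum fun t _ => h1 t)
    rw [Finset.sum_add_distrib, Finset.sum_ite_eq' univ s, if_pos (mem_univ s), ← Finset.sum_mul]
    have h2 : (2 * c s : ℤ) ≤ ∑ t, (Kb s t : ℤ) * (c t : ℤ) := by exact_mod_cast hsum s hs
    have := mul_le_mul_of_nonneg_right h2 (T.w_pos (v s)).le
    linarith
  have := mul_nonneg key (Int.natCast_nonneg (c s))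
  rw [Finset.sum_mul] at this
  refine le_of_le_of_eq this (Finset.sum_congr rfl fun t _ => by ring)

/-- `E`-edges carry intersection number at least `w`; if the diagram with edge lists supports an
affine certificate, it cannot be a proper configuration. -/
theorem no_diagram {k : ℕ} (v : Fin k ↪ Fin n) (hk : k < n) (hv : ∀ s, T.IsMinusTwo (v s))
    (L : List (Fin k × Fin k)) (hL : ∀ e ∈ L, e.1 ≠ e.2)
    (hE : ∀ e ∈ L, T.a (v e.1) (v e.2) ≠ 0)
    (c : Fin k → ℕ) (hc : ∃ s, c s ≠ 0)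
    (hsum : ∀ s, c s ≠ 0 →
      2 * c s ≤ ∑ t, (if (s, t) ∈ L ∨ (t, s) ∈ L then 1 else 0) * c t) : False := by
  refine no_config T v hk hv (fun s t => if (s, t) ∈ L ∨ (t, s) ∈ L then 1 else 0) ?_ ?_ c hc hsum
  · intro s
    rw [if_neg]
    rintro (h | h) <;> exact hL _ h rfl
  · intro s t hst
    split_ifs with h
    · have hne : T.a (v s) (v t) ≠ 0 := h.elim (hE _) fun h => a_symm T (v t) (v s) ▸ hE _ h
      simpa using w_le_a T (v.injective.ne hst) hne
    · simpa using T.offDiag_nonneg _ _ (v.injective.ne hst)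

end Groth.Agent.NumType
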