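import Groth.Agent.NumType.QuadForm
import Groth.Agent.S2173
import Groth.Agent.S7316
import Groth.Agent.S7317

/-!
# The genus of a numerical type as a sum of local contributions
-/

namespace Groth.Agent.NumType

open Finset

variable {n : ℕ} (T : Models.NumericalType n)

/-- Twice the contribution of an index to `genus - 1`. -/
def contrib (i : Fin n) : ℤ := T.m i * (2 * T.w i * (T.g i - 1) - T.a i i)

theorem two_genus : 2 * (T.genus - 1) = ∑ i, contrib T i := by
  have h := Int.mul_ediv_cancel' (Groth.Agent.S2173.result T)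
  have e : ∑ i, contrib T i = 2 * ∑ i, T.m i * T.w i * (T.g i - 1) - ∑ i, T.m i * T.a i i := by
    rw [Finset.mul_sum, ← Finset.sum_sub_distrib]
    exact Finset.sum_congr rfl fun i _ => by unfold contrib; ring
  rw [e]
  unfold Models.NumericalType.genus
  linarith

theorem contrib_nonneg (hmin : T.IsMinimal) (hn : 1 < n) (i : Fin n) : 0 ≤ contrib T i := by
  by_contra h
  push Not at h
  exact hmin i (Groth.Agent.S7316.result T hn i h)

theorem minusTwo_of_contrib_zero (hn : 1 < n) (i : Fin n) (h : contrib T i = 0) : T.IsMinusTwo i :=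
  Groth.Agent.S7317.result T hn i h

theorem one_le_genus (hmin : T.IsMinimal) (hn : 1 < n) : 1 ≤ T.genus := by
  have := two_genus T
  have : 0 ≤ ∑ i, contrib T i := Finset.sum_nonneg fun i _ => contrib_nonneg T hmin hn i
  linarith

theorem contrib_ge_diag (hmin : T.IsMinimal) (hn : 1 < n) (i : Fin n) :
    -T.a i i - 2 * T.w i ≤ contrib T i := by
  have h0 := contrib_nonneg T hmin hn i
  have hm := T.m_pos i
  have hg := T.g_nonneg i
  have hw := T.w_pos i
  by_cases h : -T.a i i - 2 * T.w i ≤ 0
  · linarith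
  · push Not at h
    unfold contrib
    nlinarith [mul_nonneg hm.le (mul_nonneg hw.le hg),
      mul_nonneg (show (0 : ℤ) ≤ T.m i - 1 by omega) h.le]

/-- Edges of the dual graph, as ordered pairs. -/
def edges : Finset (Fin n × Fin n) := univ.filter fun p => p.1 < p.2 ∧ 0 < T.a p.1 p.2

theorem exists_tree (r : Fin n) : ∃ F ⊆ edges T, F.card + 1 = n ∧
    ∑ i, (T.w i - 1) - (T.w r - 1) ≤ ∑ p ∈ F, (T.a p.1 p.2 - 1) := by
  have hn := T.pos
  have hgrow : ∀ k : ℕ, 1 ≤ k → k ≤ n → ∃ I : Finset (Fin n), r ∈ I ∧ I.card = k ∧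
      ∃ F ⊆ edges T, (∀ p ∈ F, p.1 ∈ I ∧ p.2 ∈ I) ∧ F.card + 1 = k ∧
        ∑ i ∈ I, (T.w i - 1) - (T.w r - 1) ≤ ∑ p ∈ F, (T.a p.1 p.2 - 1) := by
    intro k hk
    induction k, hk using Nat.le_induction with
    | base => intro _; exact ⟨{r}, by simp, by simp, ∅, by simp, by simp, by simp, by simp⟩
    | succ k hk ih =>
      intro hkn
      obtain ⟨I, hr, hc, F, hF, hFI, hFc, hle⟩ := ih (by omega)
      obtain ⟨i, hi, j, hj, hij⟩ := T.connected I ⟨r, hr⟩ (by
        intro h; rw [h] at hc; simp at hc; omega)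
      have hne : i ≠ j := fun e => hj (e ▸ hi)
      have hpos : 0 < T.a i j := lt_of_le_of_ne (T.offDiag_nonneg i j hne) hij.symm
      obtain ⟨p, hp, hp', hwp⟩ : ∃ p ∈ edges T, (p = (i, j) ∨ p = (j, i)) ∧ T.w j ≤ T.a p.1 p.2 := by
        have hw : T.w j ≤ T.a j i := w_le_a T hne.symm (by rw [a_symm]; exact hij)
        rcases lt_or_gt_of_ne hne with h | h
        · exact ⟨(i, j), by simp [edges, h, hpos], Or.inl rfl, by rw [a_symm]; exact hw⟩
        · exact ⟨(j, i), by simp [edges, h, a_symm T j i, hpos], Or.inr rfl, hw⟩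
      have hpF : p ∉ F := fun h => by
        rcases hp' with rfl | rfl
        · exact hj (hFI _ h).2
        · exact hj (hFI _ h).1
      refine ⟨insert j I, by simp [hr], by rw [Finset.card_insert_of_notMem hj, hc], insert p F,
        Finset.insert_subset hp hF, ?_, by rw [Finset.card_insert_of_notMem hpF]; omega, ?_⟩
      · intro q hq
        rcases Finset.mem_insert.1 hq with rfl | hq
        · rcases hp' with rfl | rfl <;> simp [hi]
        · exact ⟨Finset.mem_insert_of_mem (hFI q hq).1, Finset.mem_insert_of_mem (hFI q hq).2⟩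
      · rw [Finset.sum_insert hj, Finset.sum_insert hpF]
        linarith
  obtain ⟨I, -, hc, F, hF, -, hFc, hle⟩ := hgrow n hn le_rfl
  rw [Finset.eq_univ_of_card I (by simpa using hc)] at hle
  exact ⟨F, hF, hFc, hle⟩

theorem topGenus_le_genus (hmin : T.IsMinimal) (hn : 1 < n) : T.topGenus ≤ T.genus := by
  have he : T.edgeCount = (edges T).card := rfl
  have hg := one_le_genus T hmin hn
  have htop : T.topGenus = 1 - (n : ℤ) + ((edges T).card : ℤ) := by rw [← he]; rfl
  by_cases htree : (edges T).card < n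
  · omega
  push Not at htree
  obtain ⟨r, -, hr⟩ := Finset.exists_min_image univ T.w ⟨⟨0, T.pos⟩, mem_univ _⟩
  obtain ⟨F, hF, hFc, hle⟩ := exists_tree T r
  obtain ⟨q, hq, hqF⟩ : ∃ q ∈ edges T, q ∉ F := by
    by_contra h
    push Not at h
    have := Finset.card_le_card (show edges T ⊆ F from h)
    omega
  have hq' := (Finset.mem_filter.1 hq).2
  have hqw : T.w r ≤ T.a q.1 q.2 :=
    (hr q.1 (mem_univ _)).trans (w_le_a T hq'.1.ne hq'.2.ne')
  have h1 : ∑ i, (T.w i - 1) ≤ ∑ p ∈ edges T, (T.a p.1 p.2 - 1) := by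
    have hle' : ∑ p ∈ insert q F, (T.a p.1 p.2 - 1) ≤ ∑ p ∈ edges T, (T.a p.1 p.2 - 1) :=
      Finset.sum_le_sum_of_subset_of_nonneg (Finset.insert_subset hq hF) fun p hp _ => by
        have := (Finset.mem_filter.1 hp).2.2; omega
    rw [Finset.sum_insert hqF] at hle'
    linarith
  have hquad := (form_nonpos T fun _ => 1).1
  simp only [mul_one] at hquad
  have hswap : ∑ p ∈ (edges T).map (Equiv.prodComm _ _).toEmbedding, T.a p.1 p.2 =
      ∑ p ∈ edges T, T.a p.1 p.2 := by
    rw [Finset.sum_map]; exact Finset.sum_congr rfl fun p _ => a_symm T _ _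
  have hsplit : ∑ i, T.a i i + 2 * ∑ p ∈ edges T, T.a p.1 p.2 ≤ ∑ i, ∑ j, T.a i j := by
    have : ∑ i, T.a i i = ∑ p ∈ univ.filter (fun p : Fin n × Fin n => p.1 = p.2), T.a p.1 p.2 := by
      refine Finset.sum_nbij (fun i => (i, i)) (by simp) (fun a _ b _ h => by simpa using h) ?_ (by simp)
      intro p hp
      simp only [Finset.coe_filter, mem_univ, true_and, Set.mem_setOf_eq] at hp
      exact ⟨p.1, by simp, by ext <;> simp [hp]⟩
    rw [this, two_mul, ← add_assoc]
    nth_rewrite 2 [← hswap]
    rw [← Finset.sum_union, ← Finset.sum_union, ← Finset.sum_product']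
    · refine Finset.sum_le_sum_of_subset_of_nonneg (subset_univ _) fun p _ hp => ?_
      simp only [Finset.mem_union, Finset.mem_filter, mem_univ, true_and, not_or] at hp
      exact T.offDiag_nonneg _ _ hp.1.1
    · refine Finset.disjoint_left.2 fun p hp hp' => ?_
      rw [Finset.mem_map] at hp'
      obtain ⟨p', hp', rfl⟩ := hp'
      simp only [edges, Finset.mem_filter, mem_univ, true_and] at hp'
      simp only [edges, Finset.mem_union, Finset.mem_filter, mem_univ, true_and,
        Equiv.coe_toEmbedding, Equiv.prodComm_apply, Prod.fst_swap, Prod.snd_swap] at hp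
      rcases hp with hp | hp
      · exact hp'.1.ne hp.symm
      · exact lt_asymm hp'.1 hp.1
    · refine Finset.disjoint_left.2 fun p hp hp' => ?_
      simp only [edges, Finset.mem_filter, mem_univ, true_and] at hp hp'
      exact hp'.1.ne hp
  have hc : -∑ i, T.a i i - 2 * ∑ i, T.w i ≤ ∑ i, contrib T i := by
    rw [Finset.mul_sum, ← Finset.sum_neg_distrib, ← Finset.sum_sub_distrib]
    exact Finset.sum_le_sum fun i _ => contrib_ge_diag T hmin hn i
  simp only [Finset.sum_sub_distrib, Finset.sum_const, nsmul_one, Finset.card_univ,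
    Fintype.card_fin] at h1
  have := two_genus T
  omega

theorem contrib_le (hmin : T.IsMinimal) (hn : 1 < n) (j : Fin n) :
    contrib T j ≤ 2 * (T.genus - 1) := by
  rw [two_genus]
  exact Finset.single_le_sum (fun i _ => contrib_nonneg T hmin hn i) (mem_univ j)

end Groth.Agent.NumType
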